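import Cfsg.Agent.Lib.Schur.He.Words
import Cfsg.Agent.Lib.HeInvol.Data
import Mathlib.GroupTheory.Rank

/-!
The centraliser of an involution of the Held group has at most 21504 elements: fixed points of its
conjugates are counted in two ways.
-/

set_option autoImplicit false
set_option maxRecDepth 20000

namespace CfsgLib.HeInvol

open CfsgLib.CosetEnum CfsgLib.HeWord

/-- The involution. -/
def z : Cfsg.Spor.He := He.g 4

theorem pi_z (k : Fin 2058) : ((He.π z k : Fin 2058) : ℕ) = act He.table 4 k := by
  have h := pi_linv_apply He.table 18364758544493064720 2058 He.ip_ok He.row_ok He.π He.g He.hπ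
    (show 4 < 16 by omega) k
  rwa [show linv 18364758544493064720 4 = 4 from by decide +kernel] at h

/-- The number of fixed points. -/
noncomputable def fixCount (T : List Tr) (x : ℕ) : ℕ → ℕ :=
  Nat.rec 0 fun k ih => ih + Bool.rec (motive := fun _ => ℕ) 0 1 (Nat.beq (act T x k) k)

theorem fixCount_eq (T : List Tr) (x : ℕ) : ∀ n, fixCount T x n =
    ((Finset.range n).filter fun k => act T x k = k).card
  | 0 => by simp [fixCount]
  | n + 1 => by
    have h : fixCount T x (n + 1) = fixCount T x n +
        Bool.rec (motive := fun _ => ℕ) 0 1 (Nat.beq (act T x n) n) := rfl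
    rw [h, fixCount_eq T x n, Finset.range_add_one, Finset.filter_insert]
    rcases hb : Nat.beq (act T x n) n with _ | _
    · rw [if_neg (fun e => by rw [e, Nat.beq_refl] at hb; exact absurd hb (by simp))]
      rfl
    · rw [if_pos (Nat.eq_of_beq_eq_true hb), Finset.card_insert_of_notMem (by simp)]

theorem fix42 : fixCount He.table 4 2058 = 42 := by decide +kernel

/-- The conjugate given by a word in the generators of the point stabiliser. -/
def conjWord (a : List ℕ) : List ℕ :=
  flat He.subWords a ++ [4] ++ (flat He.subWords a).reverse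

/-- Its image of a point. -/
noncomputable def conjPt (a : List ℕ) (k : ℕ) : ℕ :=
  strict (scan He.subTable a k) fun u => strict (act He.table 4 u) fun v =>
    scan He.subTable (a.reverse.map fun x => cond (Nat.beq x 6) 7 (cond (Nat.beq x 7) 6 x)) v

/-- Its key. -/
noncomputable def conjKey (a : List ℕ) : ℕ :=
  strict (conjPt a 46) fun b => strict (conjPt a 1) fun c => strict (conjPt a 23) fun d =>
    b + 4096 * (c + 4096 * d)

/-- The words. -/
def conjAll : List (List ℕ) := conj0 ++ conj1 ++ conj2 ++ conj3 ++ conj4 ++ conj5 ++ conj6 ++ conj7 ++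
  conj8 ++ conj9 ++ conj10 ++ conj11 ++ conj12 ++ conj13 ++ conj14 ++ conj15 ++ conj16 ++ conj17 ++
  conj18 ++ conj19 ++ conj20 ++ conj21 ++ conj22 ++ conj23 ++ conj24 ++ conj25 ++ conj26 ++ conj27 ++
  conj28 ++ conj29 ++ conj30 ++ conj31 ++ conj32 ++ conj33 ++ conj34 ++ conj35 ++ conj36 ++ conj37 ++
  conj38

/-- The check of the words. -/
noncomputable def conjOK : Bool :=
  Nat.beq conjAll.length 3825 &&
    (conjAll.all fun a => (a.all fun x => Nat.blt x 8) && Nat.beq (conjPt a 0) 0) &&
    incr (conjAll.map conjKey)

theorem conj_ok : conjOK = true := by decide +kernel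

theorem subWords_lt : (He.subWords.all fun l => l.all fun x => Nat.blt x 7) = true := by decide +kernel

theorem scan_flat_sub : ∀ (a : List ℕ), (∀ x ∈ a, x < 8) → ∀ k, k < 2058 →
    scan He.table (flat He.subWords a) k = scan He.subTable a k
  | [], _, k, _ => rfl
  | x :: a, h, k, hk => by
    have hx : x < 8 := h x (by simp)
    have hc := Nat.eq_of_beq_eq_true
      (allFrom_spec _ _ _ (He.sub_comp k hk) x (Nat.zero_le _)
        (by simpa [He.subTable] using hx))
    have hlt : scan He.table (He.subWords.getD x []) k < 2058 := by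
      have hw := flat_lt He.subWords subWords_lt [x]
      rw [show flat He.subWords [x] = He.subWords.getD x [] by simp [flat]] at hw
      have := ev_apply ((He.subWords.getD x []).reverse) (fun y hy => hw y (List.mem_reverse.1 hy)) ⟨k, hk⟩
      rw [List.reverse_reverse] at this
      rw [← this]
      exact Fin.is_lt _
    rw [show flat He.subWords (x :: a) = He.subWords.getD x [] ++ flat He.subWords a from rfl,
      scan_append, scan_cons, ← hc]
    exact scan_flat_sub a (fun y hy => h y (List.mem_cons_of_mem _ hy)) _ hlt

/-- The reversed words, by the columns they follow. -/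
def revWords : List (List ℕ) :=
  (List.range 8).map fun x => (He.subWords.getD (cond (Nat.beq x 6) 7 (cond (Nat.beq x 7) 6 x)) []).reverse

theorem revComp : allFrom (fun k => compOK He.table He.subTable revWords k) 2058 0 = true := by decide +kernel

theorem scan_flat_rev : ∀ (a : List ℕ), (∀ x ∈ a, x < 8) → ∀ k, k < 2058 →
    scan He.table (flat He.subWords a).reverse k =
      scan He.subTable (a.reverse.map fun x => cond (Nat.beq x 6) 7 (cond (Nat.beq x 7) 6 x)) k
  | [], _, k, _ => rfl
  | x :: a, h, k, hk => by
    have hx : x < 8 := h x (by simp)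
    have hk' : scan He.table (flat He.subWords a).reverse k < 2058 := by
      rw [← ev_apply _ (flat_lt He.subWords subWords_lt a) ⟨k, hk⟩]
      exact Fin.is_lt _
    have hc := fun j (hj : j < 8) => Nat.eq_of_beq_eq_true
      (allFrom_spec _ _ _ (allFrom_spec _ _ _ revComp _ (Nat.zero_le _)
        (by rw [Nat.zero_add]; exact hk')) j (Nat.zero_le _) (by simpa [He.subTable] using hj))
    have ih := scan_flat_rev a (fun y hy => h y (List.mem_cons_of_mem _ hy)) k hk
    rw [show flat He.subWords (x :: a) = He.subWords.getD x [] ++ flat He.subWords a from rfl,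
      List.reverse_append, scan_append, List.reverse_cons, List.map_append, scan_append, ← ih,
      List.map_cons, List.map_nil, scan_cons, scan_nil]
    generalize scan He.table (flat He.subWords a).reverse k = v at hc
    interval_cases x <;> first
      | exact hc 0 (by omega) | exact hc 1 (by omega) | exact hc 2 (by omega) | exact hc 3 (by omega)
      | exact hc 4 (by omega) | exact hc 5 (by omega) | exact hc 6 (by omega) | exact hc 7 (by omega)

theorem conjPt_eq (a : List ℕ) (h : ∀ x ∈ a, x < 8) (k : ℕ) (hk : k < 2058) :
    scan He.table (conjWord a) k = conjPt a k := by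
  have hl := flat_lt He.subWords subWords_lt a
  have h1 : scan He.table (flat He.subWords a) k < 2058 := by
    have := ev_apply ((flat He.subWords a).reverse) (fun y hy => hl y (List.mem_reverse.1 hy)) ⟨k, hk⟩
    rw [List.reverse_reverse] at this
    rw [← this]
    exact Fin.is_lt _
  have h2 : act He.table 4 (scan He.table (flat He.subWords a) k) < 2058 := by
    rw [← pi_z ⟨_, h1⟩]
    exact Fin.is_lt _
  unfold conjWord conjPt
  simp only [strict_eq]
  rw [scan_append, scan_append, scan_cons, scan_nil, scan_flat_rev a h _ h2,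
    scan_flat_sub a h k hk]

theorem conjWord_lt (a : List ℕ) : ∀ x ∈ (conjWord a).reverse, x < 7 := by
  intro x hx
  have hl := flat_lt He.subWords subWords_lt a
  simp only [conjWord, List.mem_reverse, List.mem_append, List.mem_cons, List.not_mem_nil, or_false] at hx
  rcases hx with (h | rfl) | h
  · exact hl x h
  · omega
  · exact hl x h

theorem ev_append (u w : List ℕ) : ev (u ++ w) = ev u * ev w := by simp [ev]

theorem ev_reverse_mul : ∀ w : List ℕ, (∀ x ∈ w, x < 7) → ev w.reverse * ev w = 1
  | [], _ => by simp [ev]
  | x :: w, h => by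
    have hx : x < 7 := h x (by simp)
    have hl : linv 18364758544493064720 x = x := by interval_cases x <;> decide +kernel
    have h2 : He.g x * He.g x = 1 := by
      have := He.hinv x (by omega)
      rw [hl] at this
      nth_rewrite 2 [this]
      exact mul_inv_cancel _
    rw [List.reverse_cons, ev_append, show ev (x :: w) = He.g x * ev w by simp [ev],
      show ev [x] = He.g x by simp [ev], mul_assoc, ← mul_assoc (He.g x), h2, one_mul,
      ev_reverse_mul w fun y hy => h y (List.mem_cons_of_mem _ hy)]

theorem conj_isConj (a : List ℕ) : IsConj z (ev (conjWord a).reverse) := by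
  have hl := flat_lt He.subWords subWords_lt a
  have hinv : (ev (flat He.subWords a))⁻¹ = ev (flat He.subWords a).reverse :=
    (eq_inv_of_mul_eq_one_left (ev_reverse_mul _ hl)).symm
  refine isConj_iff.2 ⟨ev (flat He.subWords a), ?_⟩
  rw [hinv, conjWord, List.reverse_append, List.reverse_append, List.reverse_reverse,
    List.reverse_singleton, ev_append, ev_append, show ev [4] = z by simp [ev, z], mul_assoc]

theorem card_class : 187425 ≤ Nat.card {t : Cfsg.Spor.He // IsConj z t} := by
  classical
  have := He.finite
  have := Fintype.ofFinite Cfsg.Spor.He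
  have hn : 0 < 2058 := by omega
  let C : Finset Cfsg.Spor.He := Finset.univ.filter fun t => IsConj z t
  have hcard : Nat.card {t : Cfsg.Spor.He // IsConj z t} = C.card := by
    rw [Nat.card_eq_fintype_card, Fintype.card_subtype]
  let R : Cfsg.Spor.He → Fin 2058 → Prop := fun t x => He.π t x = x
  have hrow : ∀ t ∈ C, (Finset.univ.bipartiteAbove R t).card = 42 := by
    intro t ht
    obtain ⟨c, hc⟩ := isConj_iff.1 (Finset.mem_filter.1 ht).2
    have h0 : (Finset.univ.bipartiteAbove R z).card = 42 := by
      rw [← fix42, fixCount_eq]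
      refine Finset.card_nbij (fun x => (x : ℕ)) ?_ ?_ ?_
      · intro x hx
        have hx' : He.π z x = x := (Finset.mem_filter.1 hx).2
        exact Finset.mem_filter.2 ⟨Finset.mem_range.2 x.2, by rw [← pi_z, hx']⟩
      · exact fun x _ y _ h => Fin.ext h
      · intro k hk
        obtain ⟨hk1, hk2⟩ := Finset.mem_filter.1 (Finset.mem_coe.1 hk)
        refine ⟨⟨k, Finset.mem_range.1 hk1⟩, Finset.mem_filter.2 ⟨Finset.mem_univ _, ?_⟩, rfl⟩
        exact Fin.ext (by rw [pi_z]; exact hk2)
    rw [← h0]
    refine Finset.card_equiv (He.π c)⁻¹ fun x => ?_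
    simp only [Finset.mem_bipartiteAbove, Finset.mem_univ, true_and, R, ← hc, map_mul, map_inv,
      Equiv.Perm.mul_apply, Equiv.Perm.inv_def]
    exact Equiv.apply_eq_iff_eq_symm_apply _
  have hcol : ∀ x, 3825 ≤ (C.bipartiteBelow R x).card := by
    intro x
    have h0 : 3825 ≤ (C.bipartiteBelow R ⟨0, hn⟩).card := by
      have h := conj_ok
      simp only [conjOK, Bool.and_eq_true, Nat.beq_eq, List.all_eq_true, Nat.blt_eq] at h
      obtain ⟨⟨hlen, hall⟩, hincr⟩ := h
      have hnd : (conjAll.map conjKey).Nodup :=
        (incr_pairwise _ hincr).imp fun hab => Nat.ne_of_lt hab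
      rw [← hlen, ← Fintype.card_fin conjAll.length, ← Finset.card_univ]
      refine Finset.card_le_card_of_injOn (fun i => ev (conjWord conjAll[(i : ℕ)]).reverse) ?_ ?_
      · intro i _
        refine Finset.mem_filter.2 ⟨Finset.mem_filter.2 ⟨Finset.mem_univ _, conj_isConj _⟩, Fin.ext ?_⟩
        rw [ev_apply _ (conjWord_lt _), List.reverse_reverse,
          conjPt_eq _ (hall _ (List.getElem_mem i.2)).1 _ hn]
        exact (hall _ (List.getElem_mem i.2)).2
      · intro i _ j _ hij
        have hpt : ∀ k, k < 2058 → conjPt conjAll[(i : ℕ)] k = conjPt conjAll[(j : ℕ)] k := fun k hk => by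
          have e : ∀ l : Fin conjAll.length, ((He.π (ev (conjWord conjAll[(l : ℕ)]).reverse) ⟨k, hk⟩ : Fin 2058) : ℕ) =
              conjPt conjAll[(l : ℕ)] k := fun l => by
            rw [ev_apply _ (conjWord_lt _), List.reverse_reverse,
              conjPt_eq _ (hall _ (List.getElem_mem l.2)).1 _ hk]
          rw [← e i, ← e j]
          simp only at hij
          rw [hij]
        have hkey : conjKey conjAll[(i : ℕ)] = conjKey conjAll[(j : ℕ)] := by
          simp only [conjKey, strict_eq, hpt 46 (by omega), hpt 1 (by omega), hpt 23 (by omega)]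
        exact Fin.ext ((List.Nodup.getElem_inj_iff hnd (hi := by simp) (hj := by simp)).1
          (by simpa using hkey))
    obtain ⟨c, hc⟩ := He.transitive hn x
    refine h0.trans (le_of_eq (Finset.card_equiv (MulAut.conj c).toEquiv fun t => ?_))
    simp only [Finset.mem_bipartiteBelow, MulEquiv.toEquiv_eq_coe, MulEquiv.coe_toEquiv,
      MulAut.conj_apply, C, Finset.mem_filter, Finset.mem_univ, true_and, R, map_mul, map_inv,
      Equiv.Perm.mul_apply, Equiv.Perm.inv_def, ← hc, Equiv.symm_apply_apply,
      EmbeddingLike.apply_eq_iff_eq]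
    constructor
    · exact fun ⟨h1, h2⟩ => ⟨h1.trans (isConj_iff.2 ⟨c, rfl⟩), h2⟩
    · exact fun ⟨h1, h2⟩ => ⟨h1.trans (isConj_iff.2 ⟨c, rfl⟩).symm, h2⟩
  have h := Finset.card_mul_le_card_mul' R (t := (Finset.univ : Finset (Fin 2058))) (s := C)
    (fun x _ => hcol x) (fun t ht => (hrow t ht).le)
  rw [Finset.card_univ, Fintype.card_fin] at h
  rw [hcard]
  omega

theorem card_centralizer_le : Nat.card (Subgroup.centralizer ({z} : Set Cfsg.Spor.He)) ≤ 21504 := by
  have := He.finite
  have h := card_class
  rw [show Nat.card {t : Cfsg.Spor.He // IsConj z t} =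
      Nat.card (MulAction.orbit (ConjAct Cfsg.Spor.He) z) from Nat.card_congr
        (Equiv.subtypeEquivRight fun t => by rw [ConjAct.mem_orbit_conjAct, isConj_comm]),
    Nat.card_congr (MulAction.orbitEquivQuotientStabilizer (ConjAct Cfsg.Spor.He) z)] at h
  have h2 := Subgroup.card_eq_card_quotient_mul_card_subgroup
    (MulAction.stabilizer (ConjAct Cfsg.Spor.He) z)
  rw [Nat.card_congr ConjAct.ofConjAct.toEquiv, He.card_group,
    ← Subgroup.nat_card_centralizer_nat_card_stabilizer] at h2
  have := Nat.mul_le_mul_right (Nat.card (Subgroup.centralizer ({z} : Set Cfsg.Spor.He))) h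
  omega

end CfsgLib.HeInvol
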