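import Mathlib.LinearAlgebra.Matrix.SpecialLinearGroup
import Mathlib.LinearAlgebra.Matrix.GeneralLinearGroup.Card
import Mathlib.LinearAlgebra.Matrix.ToLinearEquiv
import Mathlib.LinearAlgebra.Matrix.Transvection
import Mathlib.Algebra.Field.ZMod
import Mathlib.Tactic.LinearCombination

/-!
The centraliser of a transvection in SL(5, 2) has at most 21504 elements.
-/

set_option autoImplicit false
set_option maxHeartbeats 400000

namespace CfsgLib.HeInvol

open Matrix

/-- The group SL(5, 2). -/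
abbrev SL5 : Type := Matrix.SpecialLinearGroup (Fin 5) (ZMod 2)

/-- The positions outside the plane of the transvection. -/
def sh (i : Fin 3) : Fin 5 := ⟨i + 2, by omega⟩

/-- The shape of a matrix commuting with the transvection. -/
def Shape (M : Matrix (Fin 5) (Fin 5) (ZMod 2)) : Prop :=
  M 0 0 = 1 ∧ M 1 1 = 1 ∧ (∀ i, i ≠ 0 → M i 0 = 0) ∧ ∀ j, j ≠ 1 → M 1 j = 0

theorem shape_of_comm (M : Matrix (Fin 5) (Fin 5) (ZMod 2)) (hdet : M.det = 1)
    (h : M * Matrix.transvection 0 1 1 = Matrix.transvection 0 1 1 * M) : Shape M := by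
  rw [Matrix.transvection, Matrix.mul_add, Matrix.add_mul, Matrix.mul_one, Matrix.one_mul,
    add_right_inj] at h
  have h' := fun i j => congrFun (congrFun h i) j
  have h01 : M 0 0 = M 1 1 := by
    simpa [Matrix.mul_single_apply_same, Matrix.single_mul_apply_same] using h' 0 1
  have hz : ∀ i, i ≠ 0 → M i 0 = 0 := fun i hi => by
    simpa [Matrix.mul_single_apply_same, Matrix.single_mul_apply_of_ne, hi] using h' i 1
  have hr : ∀ j, j ≠ 1 → M 1 j = 0 := fun j hj => by
    simpa [Matrix.single_mul_apply_same, Matrix.mul_single_apply_of_ne, hj] using (h' 0 j).symm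
  have h1 : M 0 0 = 1 := by
    have hcases : ∀ a : ZMod 2, a = 0 ∨ a = 1 := by decide
    refine (hcases _).resolve_left fun h0 => ?_
    have := Matrix.det_eq_zero_of_column_eq_zero (A := M) (0 : Fin 5) fun i => by
      rcases eq_or_ne i 0 with rfl | hi
      · exact h0
      · exact hz i hi
    rw [hdet] at this
    exact one_ne_zero this
  exact ⟨h1, h01 ▸ h1, hz, hr⟩

theorem block_det_ne_zero (M : Matrix (Fin 5) (Fin 5) (ZMod 2)) (hdet : M.det = 1) (hM : Shape M) :
    (M.submatrix sh sh).det ≠ 0 := by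
  have hzz : ∀ a : ZMod 2, a + a = 0 := by decide
  have : Fact (Nat.Prime 2) := ⟨Nat.prime_two⟩
  intro h0
  obtain ⟨y, hy, hAy⟩ := Matrix.exists_mulVec_eq_zero_iff.2 h0
  obtain ⟨h00, -, hz, hr⟩ := hM
  have hy0 := congrFun hAy 0
  have hy1 := congrFun hAy 1
  have hy2 := congrFun hAy 2
  simp only [Matrix.mulVec, dotProduct, Fin.sum_univ_three, Matrix.submatrix_apply,
    Pi.zero_apply] at hy0 hy1 hy2
  let v : Fin 5 → ZMod 2 :=
    fun i => if i = 0 then M 0 2 * y 0 + M 0 3 * y 1 + M 0 4 * y 2 else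
      if i = 1 then 0 else if i = 2 then y 0 else if i = 3 then y 1 else y 2
  have hv : v ≠ 0 := by
    intro h
    apply hy
    funext i
    have h2 := congrFun h 2
    have h3 := congrFun h 3
    have h4 := congrFun h 4
    simp [v] at h2 h3 h4
    fin_cases i <;> assumption
  have hMv : M *ᵥ v = 0 := by
    funext i
    rw [Matrix.mulVec, dotProduct, Fin.sum_univ_five]
    have e : v 0 = M 0 2 * y 0 + M 0 3 * y 1 + M 0 4 * y 2 ∧ v 1 = 0 ∧ v 2 = y 0 ∧ v 3 = y 1 ∧ v 4 = y 2 :=
      ⟨rfl, rfl, rfl, rfl, rfl⟩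
    obtain ⟨e0, e1, e2, e3, e4⟩ := e
    rw [e0, e1, e2, e3, e4, mul_zero, add_zero, Pi.zero_apply]
    fin_cases i <;> simp only [Fin.zero_eta, Fin.mk_one, Fin.isValue]
    · rw [h00, one_mul]
      linear_combination hzz (M 0 2 * y 0 + M 0 3 * y 1 + M 0 4 * y 2)
    · rw [hr 0 (by decide), hr 2 (by decide), hr 3 (by decide), hr 4 (by decide)]
      simp
    · rw [hz _ (by decide), zero_mul, zero_add]
      exact hy0
    · rw [hz _ (by decide), zero_mul, zero_add]
      exact hy1
    · rw [hz _ (by decide), zero_mul, zero_add]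
      exact hy2
  rw [Matrix.exists_mulVec_eq_zero_iff.1 ⟨v, hv, hMv⟩] at hdet
  exact zero_ne_one hdet

theorem split5 : ∀ i : Fin 5, i = 0 ∨ i = 1 ∨ ∃ k, sh k = i := by decide

theorem eq_of_parts (M N : Matrix (Fin 5) (Fin 5) (ZMod 2)) (hM : Shape M) (hN : Shape N)
    (hx : M 0 1 = N 0 1) (hc : ∀ k, M (sh k) 1 = N (sh k) 1) (hr' : ∀ l, M 0 (sh l) = N 0 (sh l))
    (hB : M.submatrix sh sh = N.submatrix sh sh) : M = N := by
  obtain ⟨a00, a11, az, ar⟩ := hM
  obtain ⟨b00, b11, bz, br⟩ := hN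
  refine Matrix.ext fun i j => ?_
  rcases eq_or_ne j 0 with rfl | hj0
  · rcases eq_or_ne i 0 with rfl | hi0
    · rw [a00, b00]
    · rw [az i hi0, bz i hi0]
  rcases eq_or_ne i 1 with rfl | hi1
  · rcases eq_or_ne j 1 with rfl | hj1
    · rw [a11, b11]
    · rw [ar j hj1, br j hj1]
  rcases split5 j with rfl | rfl | ⟨l, rfl⟩
  · exact absurd rfl hj0
  · rcases split5 i with rfl | rfl | ⟨k, rfl⟩
    · exact hx
    · exact absurd rfl hi1
    · exact hc k
  · rcases split5 i with rfl | rfl | ⟨k, rfl⟩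
    · exact hr' l
    · exact absurd rfl hi1
    · exact congrFun (congrFun hB k) l

/-- The matrices commuting with the transvection are counted by their free entries. -/
theorem card_centralizer_transvection_le (s : SL5)
    (hs : (s : Matrix (Fin 5) (Fin 5) (ZMod 2)) = Matrix.transvection 0 1 1) :
    Nat.card (Subgroup.centralizer ({s} : Set SL5)) ≤ 21504 := by
  classical
  have : Fact (Nat.Prime 2) := ⟨Nat.prime_two⟩
  have hsh : ∀ A : Subgroup.centralizer ({s} : Set SL5), Shape (A : SL5).1 := fun A => by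
    have h : ((((A : SL5) * s : SL5)) : Matrix (Fin 5) (Fin 5) (ZMod 2)) = ((s * (A : SL5) : SL5) : Matrix (Fin 5) (Fin 5) (ZMod 2)) :=
      congrArg Subtype.val (Subgroup.mem_centralizer_singleton_iff.1 A.2)
    rw [Matrix.SpecialLinearGroup.coe_mul, Matrix.SpecialLinearGroup.coe_mul, hs] at h
    exact shape_of_comm _ (A : SL5).2 h
  let φ : Subgroup.centralizer ({s} : Set SL5) →
      ZMod 2 × (Fin 3 → ZMod 2) × (Fin 3 → ZMod 2) × GL (Fin 3) (ZMod 2) := fun A =>
    ((A : SL5).1 0 1, fun i => (A : SL5).1 (sh i) 1, fun j => (A : SL5).1 0 (sh j),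
      Matrix.GeneralLinearGroup.mkOfDetNeZero _ (block_det_ne_zero _ (A : SL5).2 (hsh A)))
  have hφ : Function.Injective φ := by
    intro A B h
    simp only [φ, Prod.mk.injEq] at h
    obtain ⟨hx, hc, hr', hB⟩ := h
    exact Subtype.ext (Subtype.ext (eq_of_parts _ _ (hsh A) (hsh B) hx (congrFun hc) (congrFun hr')
      (congrArg Units.val hB)))
  refine (Nat.card_le_card_of_injective φ hφ).trans (le_of_eq ?_)
  simp only [Nat.card_prod, Nat.card_pi, Nat.card_zmod, Matrix.card_GL_field, ZMod.card,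
    Finset.prod_const, Finset.card_univ, Fintype.card_fin, Fin.prod_univ_three]
  rfl

end CfsgLib.HeInvol
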