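import Cfsg.Agent.Lib.HeInvol.States
import Cfsg.Agent.Lib.HeInvol.Count
import Cfsg.Agent.Lib.HeInvol.Transvection

/-!
The centraliser of an involution of the Held group is isomorphic to that of a transvection in SL(5, 2).
-/

set_option autoImplicit false
set_option maxRecDepth 20000

namespace CfsgLib.HeInvol

open CfsgLib.CosetEnum CfsgLib.HeWord Matrix

/-- The first image matrix. -/
def MA : SL5 := ⟨!![1,0,0,0,0; 0,1,0,0,0; 0,0,0,0,1; 0,0,1,0,1; 0,0,0,1,0], by decide +kernel⟩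

/-- The second image matrix. -/
def MB : SL5 := ⟨!![1,1,0,1,0; 0,1,0,0,0; 0,1,1,1,1; 0,1,0,1,1; 0,1,0,0,1], by decide +kernel⟩

/-- A vector as a number. -/
def encV (v : Fin 5 → ZMod 2) : ℕ :=
  (v 0).val + 2 * ((v 1).val + 2 * ((v 2).val + 2 * ((v 3).val + 2 * (v 4).val)))

/-- A matrix as a number. -/
def encM (M : Matrix (Fin 5) (Fin 5) (ZMod 2)) : ℕ :=
  encV (fun i => M i 0) + 32 * (encV (fun i => M i 1) + 32 * (encV (fun i => M i 2) +
    32 * (encV (fun i => M i 3) + 32 * encV (fun i => M i 4))))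

theorem encV_lt : ∀ v : Fin 5 → ZMod 2, encV v < 32 := by decide +kernel

theorem encV_inj : ∀ v w : Fin 5 → ZMod 2, encV v = encV w → v = w := by decide +kernel

theorem tm_A : ∀ v : Fin 5 → ZMod 2, tm colsA (encV v) = encV ((MA : Matrix (Fin 5) (Fin 5) (ZMod 2)) *ᵥ v) := by
  decide +kernel

theorem tm_B : ∀ v : Fin 5 → ZMod 2, tm colsB (encV v) = encV ((MB : Matrix (Fin 5) (Fin 5) (ZMod 2)) *ᵥ v) := by
  decide +kernel

theorem digits {a b c d e : ℕ} (ha : a < 32) (hb : b < 32) (hc : c < 32) (hd : d < 32) (he : e < 32) :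
    let n := a + 32 * (b + 32 * (c + 32 * (d + 32 * e)))
    n % 32 = a ∧ n / 32 % 32 = b ∧ n / 1024 % 32 = c ∧ n / 32768 % 32 = d ∧ n / 1048576 % 32 = e := by
  refine ⟨?_, ?_, ?_, ?_, ?_⟩ <;> omega

theorem encM_inj {M N : Matrix (Fin 5) (Fin 5) (ZMod 2)} (h : encM M = encM N) : M = N := by
  unfold encM at h
  obtain ⟨a0, a1, a2, a3, a4⟩ := digits (encV_lt fun i => M i 0) (encV_lt fun i => M i 1)
    (encV_lt fun i => M i 2) (encV_lt fun i => M i 3) (encV_lt fun i => M i 4)
  obtain ⟨b0, b1, b2, b3, b4⟩ := digits (encV_lt fun i => N i 0) (encV_lt fun i => N i 1)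
    (encV_lt fun i => N i 2) (encV_lt fun i => N i 3) (encV_lt fun i => N i 4)
  rw [h] at a0 a1 a2 a3 a4
  have e0 := encV_inj _ _ (a0.symm.trans b0)
  have e1 := encV_inj _ _ (a1.symm.trans b1)
  have e2 := encV_inj _ _ (a2.symm.trans b2)
  have e3 := encV_inj _ _ (a3.symm.trans b3)
  have e4 := encV_inj _ _ (a4.symm.trans b4)
  refine Matrix.ext fun i j => ?_
  fin_cases j
  · exact congrFun e0 i
  · exact congrFun e1 i
  · exact congrFun e2 i
  · exact congrFun e3 i
  · exact congrFun e4 i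

theorem mvCode_encM {T : ℕ} (M : SL5)
    (hT : ∀ v : Fin 5 → ZMod 2, tm T (encV v) = encV ((M : Matrix (Fin 5) (Fin 5) (ZMod 2)) *ᵥ v))
    (A : SL5) : mvCode T (encM (A : Matrix (Fin 5) (Fin 5) (ZMod 2))) =
      encM ((M * A : SL5) : Matrix (Fin 5) (Fin 5) (ZMod 2)) := by
  obtain ⟨a0, a1, a2, a3, a4⟩ := digits (encV_lt fun i => A.1 i 0) (encV_lt fun i => A.1 i 1)
    (encV_lt fun i => A.1 i 2) (encV_lt fun i => A.1 i 3) (encV_lt fun i => A.1 i 4)
  simp only [mvCode, strict_eq, encM, a0, a1, a2, a3, a4, hT]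
  rfl

/-- The images of the base points as one number. -/
noncomputable def keyE (h : Cfsg.Spor.He) : ℕ :=
  (He.π h ⟨0, by omega⟩ : ℕ) + 4096 * ((He.π h ⟨46, by omega⟩ : ℕ) + 4096 *
    ((He.π h ⟨1, by omega⟩ : ℕ) + 4096 * (He.π h ⟨23, by omega⟩ : ℕ)))

theorem keyE_inj {g h : Cfsg.Spor.He} (e : keyE g = keyE h) : g = h := by
  refine eq_of_base g h fun k hk hk' => Fin.ext ?_
  unfold keyE at e
  have := (He.π g ⟨0, by omega⟩).is_lt
  have := (He.π g ⟨46, by omega⟩).is_lt
  have := (He.π g ⟨1, by omega⟩).is_lt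
  have := (He.π h ⟨0, by omega⟩).is_lt
  have := (He.π h ⟨46, by omega⟩).is_lt
  have := (He.π h ⟨1, by omega⟩).is_lt
  simp only [List.mem_cons, List.not_mem_nil, or_false] at hk
  rcases hk with rfl | rfl | rfl | rfl <;> omega

theorem keyE_one : keyE 1 = key0 := by
  simp only [keyE, map_one, Equiv.Perm.one_apply]
  rfl

theorem encM_one : encM ((1 : SL5) : Matrix (Fin 5) (Fin 5) (ZMod 2)) = code0 := by decide +kernel

theorem mvKey_keyE {c : Tr} (x : Cfsg.Spor.He)
    (hc : ∀ k : Fin 2058, c.get 20 k = (He.π x k : ℕ)) (h : Cfsg.Spor.He) :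
    mvKey c (keyE h) = keyE (x * h) := by
  have := (He.π h ⟨0, by omega⟩).is_lt
  have := (He.π h ⟨46, by omega⟩).is_lt
  have := (He.π h ⟨1, by omega⟩).is_lt
  have := (He.π h ⟨23, by omega⟩).is_lt
  have d0 : keyE h % 4096 = (He.π h ⟨0, by omega⟩ : ℕ) := by unfold keyE; omega
  have d1 : keyE h / 4096 % 4096 = (He.π h ⟨46, by omega⟩ : ℕ) := by unfold keyE; omega
  have d2 : keyE h / 16777216 % 4096 = (He.π h ⟨1, by omega⟩ : ℕ) := by unfold keyE; omega
  have d3 : keyE h / 68719476736 % 4096 = (He.π h ⟨23, by omega⟩ : ℕ) := by unfold keyE; omega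
  simp only [mvKey, strict_eq, d0, d1, d2, d3, hc]
  simp only [keyE, map_mul, Equiv.Perm.mul_apply]

theorem word_lt : (∀ x ∈ wX, x < 7) ∧ (∀ x ∈ wY, x < 7) := by decide +kernel

theorem col_spec (k : Fin 2058) :
    colX.get 20 k = (He.π (ev wX) k : ℕ) ∧ colY.get 20 k = (He.π (ev wY) k : ℕ) := by
  have h := allFrom_spec _ _ _ col_ok k (Nat.zero_le _) (by rw [Nat.zero_add]; exact k.2)
  simp only [colOK, Bool.and_eq_true, Nat.beq_eq] at h
  exact ⟨(h.1.symm.trans (ev_apply _ word_lt.1 k).symm), (h.2.symm.trans (ev_apply _ word_lt.2 k).symm)⟩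

/-- The two generating pairs. -/
def pairGen : Set (Cfsg.Spor.He × SL5) := {(ev wX, MA), (ev wY, MB)}

/-- Their subgroup. -/
def pairs : Subgroup (Cfsg.Spor.He × SL5) := Subgroup.closure pairGen

/-- A pair described by a state. -/
def AtState (i : ℕ) (p : Cfsg.Spor.He × SL5) : Prop :=
  keyE p.1 = keyAt i ∧ encM (p.2 : Matrix (Fin 5) (Fin 5) (ZMod 2)) = codeAt i

theorem step_state {i : ℕ} (hi : i < 21504) {p : Cfsg.Spor.He × SL5} (hp : AtState i p) :
    (nxt.get 32 i % 65536 < 21504 ∧ AtState (nxt.get 32 i % 65536) ((ev wX, MA) * p)) ∧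
      (nxt.get 32 i / 65536 < 21504 ∧ AtState (nxt.get 32 i / 65536) ((ev wY, MB) * p)) := by
  have h := state_ok i hi
  simp only [stateOK, strict_eq, Bool.and_eq_true, Nat.blt_eq, Nat.beq_eq] at h
  obtain ⟨⟨⟨⟨u1, u2⟩, u3⟩, ⟨v1, v2⟩, v3⟩, -⟩ := h
  refine ⟨⟨u1, ?_, ?_⟩, v1, ?_, ?_⟩
  · rw [Prod.fst_mul, ← mvKey_keyE (ev wX) (fun k => (col_spec k).1), hp.1, u2]
  · rw [Prod.snd_mul, ← mvCode_encM MA tm_A, hp.2, u3]
  · rw [Prod.fst_mul, ← mvKey_keyE (ev wY) (fun k => (col_spec k).2), hp.1, v2]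
  · rw [Prod.snd_mul, ← mvCode_encM MB tm_B, hp.2, v3]

theorem exists_state : ∀ p ∈ pairs, ∃ i < 21504, AtState i p := by
  intro p hp
  have := He.finite
  have hmem : ∀ q ∈ Submonoid.closure pairGen, ∃ i < 21504, AtState i q := by
    intro q hq
    induction hq using Submonoid.closure_induction_left with
    | one => exact ⟨0, by omega, by rw [Prod.fst_one, keyE_one, start_ok.1],
        by rw [Prod.snd_one, encM_one, start_ok.2]⟩
    | mul_left x hx y _ ih =>
      obtain ⟨i, hi, hiy⟩ := ih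
      rcases hx with rfl | hx
      · exact ⟨_, (step_state hi hiy).1⟩
      · rw [Set.mem_singleton_iff.1 hx]
        exact ⟨_, (step_state hi hiy).2⟩
  refine hmem p ?_
  rw [pairs, ← Subgroup.mem_toSubmonoid, Subgroup.closure_toSubmonoid_of_finite] at hp
  exact hp

theorem exists_pair : ∀ i < 21504, ∃ p ∈ pairs, AtState i p := by
  intro i
  induction i using Nat.strong_induction_on with
  | _ i ih =>
    intro hi
    have h := allFrom_spec _ _ _ pre_ok i (Nat.zero_le _) (by rw [Nat.zero_add]; exact hi)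
    simp only [preOK, strict_eq, Bool.or_eq_true, Bool.and_eq_true, Nat.beq_eq, Nat.blt_eq] at h
    rcases h with rfl | ⟨⟨hp, hj⟩, hn⟩
    · exact ⟨1, one_mem _, by rw [Prod.fst_one, keyE_one, start_ok.1],
        by rw [Prod.snd_one, encM_one, start_ok.2]⟩
    · obtain ⟨q, hq, hqs⟩ := ih _ hp (by omega)
      have hs := step_state (by omega) hqs
      rcases Nat.eq_zero_or_pos (pre.get 20 i / 65536) with h0 | h0
      · rw [h0, show Nat.beq 0 0 = true from rfl, cond_true] at hn
        exact ⟨_, mul_mem (Subgroup.subset_closure (Or.inl rfl)) hq, hn ▸ hs.1.2⟩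
      · rw [show pre.get 20 i / 65536 = 1 by omega, show Nat.beq 1 0 = false from rfl, cond_false] at hn
        exact ⟨_, mul_mem (Subgroup.subset_closure (Or.inr rfl)) hq, hn ▸ hs.2.2⟩

theorem card_pairs : 21504 ≤ Nat.card pairs := by
  have := He.finite
  choose q hq hqs using exists_pair
  have hs : ∀ t < 21504, srt.get 16 t < 21504 ∧
      (0 < t → keyAt (srt.get 16 (t - 1)) < keyAt (srt.get 16 t)) := by
    intro t ht
    have h := allFrom_spec _ _ _ srt_ok t (Nat.zero_le _) (by rw [Nat.zero_add]; exact ht)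
    simp only [srtOK, strict_eq, Bool.and_eq_true, Bool.or_eq_true, Nat.beq_eq, Nat.blt_eq] at h
    exact ⟨h.1, fun h0 => h.2.resolve_left (by omega)⟩
  let f : Fin 21504 → pairs := fun t => ⟨_, hq _ (hs t t.2).1⟩
  have hmono : ∀ a b : ℕ, a < b → b < 21504 → keyAt (srt.get 16 a) < keyAt (srt.get 16 b) := by
    intro a b hab
    induction b with
    | zero => omega
    | succ b ih =>
      intro hb
      have h1 := (hs (b + 1) hb).2 (by omega)
      rw [Nat.add_sub_cancel] at h1
      rcases Nat.lt_succ_iff_lt_or_eq.1 hab with h | rfl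
      · exact (ih h (by omega)).trans h1
      · exact h1
  have hf : Function.Injective f := by
    intro a b hab
    have hv : q _ (hs a a.2).1 = q _ (hs b b.2).1 := congrArg Subtype.val hab
    have e : keyAt (srt.get 16 a) = keyAt (srt.get 16 b) := by
      rw [← (hqs _ (hs a a.2).1).1, ← (hqs _ (hs b b.2).1).1, hv]
    rcases Nat.lt_trichotomy (a : ℕ) b with h | h | h
    · exact absurd e (hmono a b h b.2).ne
    · exact Fin.ext h
    · exact absurd e.symm (hmono b a h a.2).ne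
  have h := Nat.card_le_card_of_injective f hf
  rwa [Nat.card_fin] at h

theorem eq_one_of_proj (p : Cfsg.Spor.He × SL5) (hp : p ∈ pairs) (h : p.1 = 1 ∨ p.2 = 1) : p = 1 := by
  obtain ⟨i, hi, hk, hc⟩ := exists_state p hp
  have hs := state_ok i hi
  simp only [stateOK, strict_eq, Bool.and_eq_true, Bool.or_eq_true, Nat.beq_eq, Bool.not_eq_eq_eq_not,
    Bool.not_true] at hs
  have h0 : i = 0 := by
    rcases hs.2 with h0 | ⟨n1, n2⟩
    · exact h0
    · rcases h with h | h
      · rw [h, keyE_one] at hk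
        rw [← hk, Nat.beq_refl] at n1
        exact absurd n1 (by simp)
      · rw [h, encM_one] at hc
        rw [← hc, Nat.beq_refl] at n2
        exact absurd n2 (by simp)
  subst h0
  rw [start_ok.1, ← keyE_one] at hk
  rw [start_ok.2, ← encM_one] at hc
  exact Prod.ext (keyE_inj hk) (Subtype.ext (encM_inj hc))

theorem z_ne_one : z ≠ 1 := by
  intro h
  have hk : act He.table 4 46 = 46 ∧ act He.table 4 1 = 1 ∧ act He.table 4 23 = 23 := by
    refine ⟨?_, ?_, ?_⟩ <;>
      first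
        | (have := pi_z ⟨46, by omega⟩; rw [h, map_one] at this; exact this.symm)
        | (have := pi_z ⟨1, by omega⟩; rw [h, map_one] at this; exact this.symm)
        | (have := pi_z ⟨23, by omega⟩; rw [h, map_one] at this; exact this.symm)
  have hne : ¬ (act He.table 4 46 = 46 ∧ act He.table 4 1 = 1 ∧ act He.table 4 23 = 23) := by
    decide +kernel
  exact hne hk

theorem order_z : orderOf z = 2 := by
  refine orderOf_eq_prime ?_ z_ne_one
  have h := He.hinv 4 (by omega)
  rw [show linv 18364758544493064720 4 = 4 from by decide +kernel] at h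
  rw [pow_two]
  show He.g 4 * He.g 4 = 1
  nth_rewrite 2 [h]
  exact mul_inv_cancel _

theorem gen_comm : (∀ p ∈ pairGen, p.1 * z = z * p.1) ∧
    ∀ p ∈ pairGen, (p.2 : Matrix (Fin 5) (Fin 5) (ZMod 2)) * Matrix.transvection 0 1 1 =
      Matrix.transvection 0 1 1 * (p.2 : Matrix (Fin 5) (Fin 5) (ZMod 2)) := by
  have hL : ([wX, wY, [4]].all fun l => l.all fun x => Nat.blt x 7) = true := by decide +kernel
  have hx : Nat.beq (key [wX, wY, [4]] [0, 2]) (key [wX, wY, [4]] [2, 0]) = true := by decide +kernel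
  have hy : Nat.beq (key [wX, wY, [4]] [1, 2]) (key [wX, wY, [4]] [2, 1]) = true := by decide +kernel
  have ex := ev_eq_of_key _ hL _ _ (Nat.eq_of_beq_eq_true hx)
  have ey := ev_eq_of_key _ hL _ _ (Nat.eq_of_beq_eq_true hy)
  simp only [flat, List.map_cons, List.map_nil, List.getD_cons_zero, List.getD_cons_succ,
    List.flatten_cons, List.flatten_nil, List.append_nil, ev_append,
    show ev [4] = z from by simp [ev, z]] at ex ey
  refine ⟨?_, ?_⟩
  · rintro p (rfl | rfl)
    · exact ex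
    · exact ey
  · rintro p (rfl | rfl) <;> decide +kernel

theorem exists_iso (s : SL5)
    (hs : (s : Matrix (Fin 5) (Fin 5) (ZMod 2)) = Matrix.transvection 0 1 1) :
    ∃ z : Cfsg.Spor.He, orderOf z = 2 ∧
      Nonempty (↥(Subgroup.centralizer ({z} : Set Cfsg.Spor.He)) ≃* ↥(Subgroup.centralizer ({s} : Set SL5))) := by
  have := He.finite
  let ψ₁ : pairs →* Cfsg.Spor.He := (MonoidHom.fst _ _).comp pairs.subtype
  let ψ₂ : pairs →* SL5 := (MonoidHom.snd _ _).comp pairs.subtype
  have i₁ : Function.Injective ψ₁ := (injective_iff_map_eq_one ψ₁).2 fun p hp =>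
    Subtype.ext (eq_one_of_proj p p.2 (Or.inl hp))
  have i₂ : Function.Injective ψ₂ := (injective_iff_map_eq_one ψ₂).2 fun p hp =>
    Subtype.ext (eq_one_of_proj p p.2 (Or.inr hp))
  have l₁ : pairs.map (MonoidHom.fst _ _) ≤ Subgroup.centralizer ({z} : Set Cfsg.Spor.He) := by
    rw [pairs, MonoidHom.map_closure, Subgroup.closure_le]
    rintro _ ⟨p, hp, rfl⟩
    exact Subgroup.mem_centralizer_singleton_iff.2 (gen_comm.1 p hp)
  have l₂ : pairs.map (MonoidHom.snd _ _) ≤ Subgroup.centralizer ({s} : Set SL5) := by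
    rw [pairs, MonoidHom.map_closure, Subgroup.closure_le]
    rintro _ ⟨p, hp, rfl⟩
    refine Subgroup.mem_centralizer_singleton_iff.2 (Subtype.ext ?_)
    show ((p.2 * s : SL5) : Matrix (Fin 5) (Fin 5) (ZMod 2)) = ((s * p.2 : SL5) : Matrix (Fin 5) (Fin 5) (ZMod 2))
    rw [Matrix.SpecialLinearGroup.coe_mul, Matrix.SpecialLinearGroup.coe_mul, hs]
    exact gen_comm.2 p hp
  have r₁ : ψ₁.range = Subgroup.centralizer ({z} : Set Cfsg.Spor.He) := by
    refine Subgroup.eq_of_le_of_card_ge ?_ ?_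
    · rw [MonoidHom.range_comp, Subgroup.range_subtype]
      exact l₁
    · rw [← Nat.card_congr (MonoidHom.ofInjective i₁).toEquiv]
      exact card_centralizer_le.trans card_pairs
  have r₂ : ψ₂.range = Subgroup.centralizer ({s} : Set SL5) := by
    refine Subgroup.eq_of_le_of_card_ge ?_ ?_
    · rw [MonoidHom.range_comp, Subgroup.range_subtype]
      exact l₂
    · rw [← Nat.card_congr (MonoidHom.ofInjective i₂).toEquiv]
      exact (card_centralizer_transvection_le s hs).trans card_pairs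
  exact ⟨z, order_z, ⟨((MulEquiv.subgroupCongr r₁).symm.trans (MonoidHom.ofInjective i₁).symm).trans
    ((MonoidHom.ofInjective i₂).trans (MulEquiv.subgroupCongr r₂))⟩⟩

end CfsgLib.HeInvol
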