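import Cfsg.Agent.Lib.Schur.He.Words
import Cfsg.Agent.Lib.HeInvol.Data

/-!
Kernel checks of the table of 21504 states.
-/

set_option autoImplicit false
set_option maxRecDepth 20000

namespace CfsgLib.HeInvol

open CfsgLib.CosetEnum CfsgLib.HeWord

/-- The two columns follow the two words. -/
noncomputable def colOK (k : ℕ) : Bool :=
  Nat.beq (scan He.table wX.reverse k) (colX.get 20 k) && Nat.beq (scan He.table wY.reverse k) (colY.get 20 k)

/-- Apply a column to four packed points. -/
noncomputable def mvKey (c : Tr) (e : ℕ) : ℕ :=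
  strict (c.get 20 (e % 4096)) fun a => strict (c.get 20 (e / 4096 % 4096)) fun b =>
    strict (c.get 20 (e / 16777216 % 4096)) fun d => strict (c.get 20 (e / 68719476736 % 4096)) fun f =>
      a + 4096 * (b + 4096 * (d + 4096 * f))

/-- Apply a map of the 32 vectors to one packed vector. -/
def tm (T v : ℕ) : ℕ := (T / 2 ^ (5 * v)) % 32

/-- Apply a map of the 32 vectors to five packed vectors. -/
noncomputable def mvCode (T c : ℕ) : ℕ :=
  strict (tm T (c % 32)) fun a => strict (tm T (c / 32 % 32)) fun b => strict (tm T (c / 1024 % 32)) fun d =>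
    strict (tm T (c / 32768 % 32)) fun f => strict (tm T (c / 1048576 % 32)) fun g =>
      a + 32 * (b + 32 * (d + 32 * (f + 32 * g)))

/-- The key of a state. -/
noncomputable def keyAt (i : ℕ) : ℕ := st.get 80 i % 2 ^ 48

/-- The code of a state. -/
noncomputable def codeAt (i : ℕ) : ℕ := st.get 80 i / 2 ^ 48

/-- The key of the identity. -/
def key0 : ℕ := 0 + 4096 * (46 + 4096 * (1 + 4096 * 23))

/-- The code of the identity. -/
def code0 : ℕ := 1 + 32 * (2 + 32 * (4 + 32 * (8 + 32 * 16)))

/-- The test of one state. -/
noncomputable def stateOK (i : ℕ) : Bool :=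
  strict (keyAt i) fun k => strict (codeAt i) fun c => strict (nxt.get 32 i) fun e =>
    strict (e % 65536) fun u => strict (e / 65536) fun v =>
      Nat.blt u 21504 && Nat.beq (mvKey colX k) (keyAt u) && Nat.beq (mvCode colsA c) (codeAt u) &&
      (Nat.blt v 21504 && Nat.beq (mvKey colY k) (keyAt v) && Nat.beq (mvCode colsB c) (codeAt v)) &&
      (Nat.beq i 0 || !(Nat.beq k key0) && !(Nat.beq c code0))

/-- The test of the predecessor of a state. -/
noncomputable def preOK (i : ℕ) : Bool :=
  strict (pre.get 20 i) fun e => strict (e % 65536) fun p => strict (e / 65536) fun j =>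
    Nat.beq i 0 || (Nat.blt p i && Nat.blt j 2 &&
      Nat.beq (cond (Nat.beq j 0) (nxt.get 32 p % 65536) (nxt.get 32 p / 65536)) i)

/-- The test of the sorting. -/
noncomputable def srtOK (t : ℕ) : Bool :=
  strict (srt.get 16 t) fun i => Nat.blt i 21504 &&
    (Nat.beq t 0 || Nat.blt (keyAt (srt.get 16 (t - 1))) (keyAt i))

theorem col_ok : allFrom colOK 2058 0 = true := by decide +kernel
theorem pre_ok : allFrom preOK 21504 0 = true := by decide +kernel
theorem srt_ok : allFrom srtOK 21504 0 = true := by decide +kernel
theorem state_ok0 : allFrom stateOK 7168 0 = true := by decide +kernel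
theorem state_ok1 : allFrom stateOK 7168 7168 = true := by decide +kernel
theorem state_ok2 : allFrom stateOK 7168 14336 = true := by decide +kernel
theorem start_ok : keyAt 0 = key0 ∧ codeAt 0 = code0 := by
  constructor <;> exact Nat.eq_of_beq_eq_true (by decide +kernel)

theorem state_ok (i : ℕ) (h : i < 21504) : stateOK i = true := by
  rcases Nat.lt_or_ge i 7168 with h1 | h1
  · exact allFrom_spec _ _ _ state_ok0 i (by omega) (by omega)
  rcases Nat.lt_or_ge i 14336 with h2 | h2
  · exact allFrom_spec _ _ _ state_ok1 i (by omega) (by omega)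
  exact allFrom_spec _ _ _ state_ok2 i (by omega) (by omega)

end CfsgLib.HeInvol
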